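import Cfsg.Agent.Lib.Recog.NSEPGL.Core
import Cfsg.Agent.Lib.Perm.ZassenhausClassify
import Mathlib.GroupTheory.FixedPointFree
import Mathlib.GroupTheory.PGroup
import Mathlib.Tactic.Group

/-!
# The action on the Sylow `p`-subgroups

`G` has order `q (q ^ 2 - 1)`, `q` odd, and its elements of order divisible by `p` have order `p`.
The Sylow `p`-subgroups are abelian and meet trivially, and `G` is sharply three-transitive on the
`q + 1` of them. The elements interchanging two of them are involutions exactly if there are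
`q ^ 2` involutions.
-/

set_option autoImplicit false
set_option linter.unusedSectionVars false

namespace CfsgLib.Recog.NSEPGL

open Subgroup
open CfsgLib.Recog.PSLOrder (Hyp)

universe u

local notation "Cen[" x "]" => Subgroup.centralizer ({x} : Set _)

variable {G : Type u} [Group G] [Finite G] {p f M : ℕ} [Fact p.Prime]
  (h : Hyp G p f M 1) (hp2 : p ≠ 2)
include h hp2

theorem not_commute_invol {t x : G} (ht : orderOf t = 2) (hx : orderOf x = p) : t * x ≠ x * t :=
  fun e => hp2 (h.mul_ne hx e Nat.prime_two ht).symm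

theorem isConj_of_orderOf {x y : G} (hx : orderOf x = p) (hy : orderOf y = p) : IsConj x y := by
  obtain ⟨i, hi, hc, hcl⟩ := h.card_class hx
  have hif : i = f := Nat.pow_right_injective h.prime.two_le (hc.symm.trans (h.card_cen hx))
  rw [hif, Nat.sub_self, pow_zero, one_mul] at hcl
  let F : {z : G // IsConj x z} → {z : G // orderOf z = p} := fun z => ⟨z.1, by
    obtain ⟨g, hg⟩ := isConj_iff.1 z.2
    rw [← hg]
    exact ((MulAut.conj g).orderOf_eq x).trans hx⟩
  have hF : Function.Bijective F := (Nat.bijective_iff_injective_and_card F).2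
    ⟨fun a b e => Subtype.ext (congrArg (fun z : {z : G // orderOf z = p} => (z : G)) e),
      by rw [hcl, h.count, one_mul]⟩
  obtain ⟨⟨z, hz⟩, e⟩ := hF.2 ⟨y, hy⟩
  obtain rfl : z = y := congrArg Subtype.val e
  exact hz

/-- An involution normalising a Sylow `p`-subgroup inverts it. -/
theorem invol_inverts (P : Sylow p G) {t : G} (ht : orderOf t = 2)
    (hN : t ∈ normalizer ((P : Subgroup G) : Set G)) :
    (∀ x ∈ (P : Subgroup G), t * x * t⁻¹ = x⁻¹) ∧
      ∀ x ∈ (P : Subgroup G), ∀ y ∈ (P : Subgroup G), x * y = y * x := by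
  let φ : (P : Subgroup G) →* (P : Subgroup G) := MonoidHom.mk'
    (fun x => ⟨t * x * t⁻¹, (mem_normalizer_iff.1 hN x).1 x.2⟩)
    fun x y => Subtype.ext (by simp only [coe_mul]; group)
  have htt : t * t = 1 := by rw [← sq, ← ht]; exact pow_orderOf_eq_one t
  have hinv : Function.Involutive φ := fun x => Subtype.ext (by
    show t * (t * (x : G) * t⁻¹) * t⁻¹ = x
    rw [inv_eq_of_mul_eq_one_right htt]
    calc t * (t * (x : G) * t) * t = (t * t) * x * (t * t) := by group
      _ = x := by rw [htt, one_mul, mul_one])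
  have hfix : MonoidHom.FixedPointFree φ := fun x hx => by
    by_contra hx1
    refine not_commute_invol h hp2 ht (h.orderOf_eq P.2 x.2 fun e => hx1 (Subtype.ext e)) ?_
    exact mul_inv_eq_iff_eq_mul.1 (congrArg Subtype.val hx)
  refine ⟨fun x hx => congrArg Subtype.val (congrFun (hfix.coe_eq_inv_of_involutive hinv) ⟨x, hx⟩),
    fun x hx y hy => congrArg Subtype.val (hfix.commute_all_of_involutive hinv ⟨x, hx⟩ ⟨y, hy⟩).eq⟩

theorem sylow_comm (P : Sylow p G) :
    ∀ x ∈ (P : Subgroup G), ∀ y ∈ (P : Subgroup G), x * y = y * x := by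
  have hPq := h.card_sylow P
  have : Nontrivial (P : Subgroup G) := Finite.one_lt_card_iff_nontrivial.1
    (by have := h.four; omega)
  have : Nontrivial (center (P : Subgroup G)) := P.2.center_nontrivial
  obtain ⟨⟨⟨z, hzP⟩, hzc⟩, hne⟩ := exists_ne (1 : center (P : Subgroup G))
  have hz1 : z ≠ 1 := fun e => hne (Subtype.ext (Subtype.ext e))
  have hzp := h.orderOf_eq P.2 hzP hz1
  have hPC : (P : Subgroup G) = Cen[z] := eq_of_le_of_card_ge
    (fun w hw => mem_centralizer_singleton_iff.2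
      (congrArg Subtype.val (mem_center_iff.1 hzc ⟨w, hw⟩)))
    (by rw [h.card_cen hzp, hPq])
  obtain ⟨g, hg⟩ := isConj_iff.1 (isConj_of_orderOf h hp2 hzp ((orderOf_inv z).trans hzp))
  have hgN : g ∈ normalizer ((P : Subgroup G) : Set G) := by
    refine mem_normalizer_iff.2 fun w => ?_
    have hcc : g * w * g⁻¹ ∈ Cen[g * z * g⁻¹] ↔ w ∈ Cen[z] := by
      rw [mem_centralizer_singleton_iff, mem_centralizer_singleton_iff]
      exact Commute.conj_iff g
    rw [hPC, ← hcc, hg, mem_centralizer_singleton_iff, mem_centralizer_singleton_iff]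
    exact Commute.inv_right_iff
  have hgC : g ∉ Cen[z] := fun hgC => by
    have e : g * z = z * g := mem_centralizer_singleton_iff.1 hgC
    rw [e, mul_inv_cancel_right] at hg
    have h2 : z ^ 2 = 1 := by
      rw [sq]
      conv_lhs => arg 1; rw [hg]
      exact inv_mul_cancel z
    have := Nat.le_of_dvd two_pos (orderOf_dvd_of_pow_eq_one h2)
    have := (Fact.out : p.Prime).two_le
    omega
  have heven : 2 ∣ orderOf g := by
    by_contra hodd
    obtain ⟨m, hm⟩ := exists_pow_eq_self_of_coprime (n := 2)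
      ((Nat.prime_two.coprime_iff_not_dvd.2 hodd))
    refine hgC (hm ▸ pow_mem (mem_centralizer_singleton_iff.2 ?_) m)
    have h3 : g * z⁻¹ * g⁻¹ = z := by
      have e := congrArg (·⁻¹) hg
      simpa [mul_assoc] using e
    rw [sq]
    calc g * g * z = g * (g * z * g⁻¹) * g := by group
      _ = g * z⁻¹ * g := by rw [hg]
      _ = (g * z⁻¹ * g⁻¹) * g * g := by group
      _ = z * (g * g) := by rw [h3, mul_assoc]
  obtain ⟨k, hk⟩ := heven
  exact (invol_inverts h hp2 P (t := g ^ k) (by
    rw [show k = orderOf g / 2 by omega]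
    exact orderOf_pow_orderOf_div (orderOf_pos g).ne' ⟨k, hk⟩) (pow_mem hgN k)).2

theorem ti (P Q : Sylow p G) (hPQ : P ≠ Q) : (P : Subgroup G) ⊓ Q = ⊥ := by
  by_contra hne
  obtain ⟨⟨x, hxP, hxQ⟩, hx⟩ := ne_bot_iff_exists_ne_one.1 hne
  have hx1 : x ≠ 1 := fun e => hx (Subtype.ext e)
  have hxp := h.orderOf_eq P.2 hxP hx1
  have key : ∀ R : Sylow p G, x ∈ (R : Subgroup G) → (R : Subgroup G) = Cen[x] := fun R hR =>
    eq_of_le_of_card_ge (fun w hw => mem_centralizer_singleton_iff.2 (sylow_comm h hp2 R w hw x hR))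
      (by rw [h.card_cen hxp, h.card_sylow R])
  exact hPQ (Sylow.ext ((key P hxP).trans (key Q hxQ).symm))

theorem mem_unique {P Q : Sylow p G} {x : G} (hP : x ∈ (P : Subgroup G))
    (hQ : x ∈ (Q : Subgroup G)) (hx1 : x ≠ 1) : P = Q :=
  Sylow.ext ((h.cen_eq_of_ti (ti h hp2) P hP hx1).symm.trans (h.cen_eq_of_ti (ti h hp2) Q hQ hx1))

/-- The number of points. -/
theorem card_points : Nat.card (Sylow p G) = p ^ f + 1 := by
  classical
  let F : (Σ P : Sylow p G, {x : (P : Subgroup G) // x ≠ 1}) → {x : G // orderOf x = p} :=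
    fun z => ⟨(z.2.1 : G),
      h.orderOf_eq z.1.2 z.2.1.2 fun e => z.2.2 (Subtype.ext e)⟩
  have hF : Function.Bijective F := by
    constructor
    · rintro ⟨P, ⟨x, hx⟩, hx1⟩ ⟨Q, ⟨y, hy⟩, hy1⟩ e
      have e' : x = y := congrArg (fun z : {x : G // orderOf x = p} => (z : G)) e
      subst e'
      obtain rfl := mem_unique h hp2 hx hy fun e => hx1 (Subtype.ext e)
      rfl
    · rintro ⟨x, hx⟩
      have hp : IsPGroup p (zpowers x) :=
        IsPGroup.of_card (n := 1) (by rw [Nat.card_zpowers, hx, pow_one])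
      obtain ⟨P, hP⟩ := hp.exists_le_sylow
      refine ⟨⟨P, ⟨x, hP (mem_zpowers x)⟩, fun e => ?_⟩, Subtype.ext rfl⟩
      rw [show x = 1 from congrArg Subtype.val e, orderOf_one] at hx
      exact h.prime.one_lt.ne hx
  have hc : ∀ P : Sylow p G, Nat.card {x : (P : Subgroup G) // x ≠ 1} = p ^ f - 1 := by
    intro P
    have := Fintype.ofFinite (P : Subgroup G)
    rw [Nat.card_eq_fintype_card, Fintype.card_subtype_compl, Fintype.card_subtype_eq,
      ← Nat.card_eq_fintype_card]
    exact congrArg (· - 1) (h.card_sylow P)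
  have h1 := Nat.card_congr (Equiv.ofBijective F hF)
  have := Fintype.ofFinite (Sylow p G)
  rw [Nat.card_sigma, Finset.sum_congr rfl (fun P _ => hc P), Finset.sum_const, smul_eq_mul,
    Finset.card_univ, ← Nat.card_eq_fintype_card, h.count] at h1
  obtain ⟨k, hk⟩ := Nat.exists_eq_add_of_le' (show 1 ≤ p ^ f by have := h.four; omega)
  have h2 := h.eq
  rw [hk] at h1 h2 ⊢
  rw [Nat.add_sub_cancel] at h1
  refine Nat.eq_of_mul_eq_mul_right (show 0 < k by have := h.four; omega) ?_
  rw [h1]
  ring_nf at h2 ⊢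
  omega

theorem card_normalizer (P : Sylow p G) :
    1 * Nat.card ↥(normalizer ((P : Subgroup G) : Set G)) = p ^ f * (p ^ f - 1) := by
  have h1 := (normalizer ((P : Subgroup G) : Set G)).index_mul_card
  have h2 : (normalizer ((P : Subgroup G) : Set G)).index = p ^ f + 1 :=
    (P.card_eq_index_normalizer).symm.trans (card_points h hp2)
  obtain ⟨k, hk⟩ := Nat.exists_eq_add_of_le' (show 1 ≤ p ^ f by have := h.four; omega)
  have h3 := h.eq
  rw [h2, h.card, hk] at h1
  rw [hk] at h3 ⊢
  rw [Nat.add_sub_cancel]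
  have h5 : 1 * M = (k + 1 + 1) * k := by
    ring_nf at h3 ⊢
    omega
  refine Nat.eq_of_mul_eq_mul_left (show 0 < k + 1 + 1 by omega) ?_
  calc (k + 1 + 1) * (1 * Nat.card ↥(normalizer ((P : Subgroup G) : Set G)))
      = 1 * ((k + 1 + 1) * Nat.card ↥(normalizer ((P : Subgroup G) : Set G))) := by ring
    _ = (k + 1) * (1 * M) := by rw [h1]; ring
    _ = (k + 1 + 1) * ((k + 1) * k) := by rw [h5]; ring

/-- The Sylow subgroup `P` fixes only `P`. -/
theorem free (P Q : Sylow p G) (hPQ : Q ≠ P) {u : G} (hu : u ∈ (P : Subgroup G))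
    (hfix : u • Q = Q) : u = 1 := by
  have hn := Sylow.smul_eq_iff_mem_normalizer.1 hfix
  have h1 : u ∈ (P : Subgroup G) ⊓ normalizer ((Q : Subgroup G) : Set G) := ⟨hu, hn⟩
  have h2 : u ∈ (P : Subgroup G) ⊓ (Q : Subgroup G) := (P.isPGroup'.inf_normalizer_sylow Q).le h1
  rw [ti h hp2 P Q hPQ.symm, mem_bot] at h2
  exact h2

theorem smul_self_eq (P : Sylow p G) {u : G} (hu : u ∈ (P : Subgroup G)) : u • P = P :=
  Sylow.smul_eq_iff_mem_normalizer.2 (le_normalizer hu)

theorem regular (P : Sylow p G) :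
    ∀ y z : Sylow p G, y ≠ P → z ≠ P → ∃! u : (P : Subgroup G), (u : G) • y = z := by
  classical
  intro y z hy hz
  let F : ↥(P : Subgroup G) → {w : Sylow p G // w ≠ P} := fun u => ⟨(u : G) • y, fun e =>
    hy (smul_left_cancel (u : G) (e.trans (smul_self_eq h hp2 P u.2).symm))⟩
  have hinj : Function.Injective F := fun a b e => by
    have e' : (a : G) • y = (b : G) • y := congrArg Subtype.val e
    refine Subtype.ext (inv_mul_eq_one.1 (free h hp2 P y hy (mul_mem (inv_mem a.2) b.2) ?_))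
    rw [mul_smul, ← e', inv_smul_smul]
  have hbij : Function.Bijective F := by
    refine (Nat.bijective_iff_injective_and_card F).2 ⟨hinj, ?_⟩
    have := Fintype.ofFinite (Sylow p G)
    rw [Nat.card_eq_fintype_card (α := {w : Sylow p G // w ≠ P}), Fintype.card_subtype_compl,
      Fintype.card_subtype_eq, ← Nat.card_eq_fintype_card, card_points h hp2, Nat.add_sub_cancel]
    exact h.card_sylow P
  obtain ⟨u, hu⟩ := hbij.2 ⟨z, hz⟩
  exact ⟨u, congrArg Subtype.val hu, fun v hv =>
    hinj (Subtype.ext (hv.trans (congrArg Subtype.val hu).symm))⟩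

theorem two_trans : MulAction.IsMultiplyPretransitive G (Sylow p G) 2 := by
  refine MulAction.is_two_pretransitive_iff.2 fun {a b c d} hab hcd => ?_
  obtain ⟨g, hg⟩ := MulAction.exists_smul_eq G a c
  obtain ⟨u, hu, -⟩ := regular h hp2 c (g • b) d
    (fun e => hab (smul_left_cancel g (hg.trans e.symm))) hcd.symm
  exact ⟨(u : G) * g, by rw [mul_smul, hg, smul_self_eq h hp2 c u.2], by rw [mul_smul, hu]⟩

theorem three_fix {g : G} {a b c : Sylow p G} (hab : a ≠ b) (hbc : b ≠ c) (hac : a ≠ c)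
    (ha : g • a = a) (hb : g • b = b) (hc : g • c = c) : g = 1 := by
  obtain ⟨u, hu, huu⟩ := regular h hp2 a b c hab.symm hac.symm
  have hga := Sylow.smul_eq_iff_mem_normalizer.1 ha
  have hmem : g * u * g⁻¹ ∈ (a : Subgroup G) := (mem_normalizer_iff.1 hga u).1 u.2
  have hfix : (g * u * g⁻¹) • b = c := by
    rw [mul_smul, mul_smul, inv_smul_eq_iff.2 hb.symm, hu, hc]
  have he : g * u * g⁻¹ = u := congrArg Subtype.val (huu ⟨_, hmem⟩ hfix)
  have hu1 : (u : G) ≠ 1 := fun e => hbc (by rw [← hu, e, one_smul])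
  have hg : g ∈ Cen[(u : G)] := mem_centralizer_singleton_iff.2 (mul_inv_eq_iff_eq_mul.1 he)
  rw [h.cen_eq_of_ti (ti h hp2) a u.2 hu1] at hg
  exact free h hp2 a b hab.symm hg hb

theorem faithful : FaithfulSMul G (Sylow p G) := by
  classical
  refine ⟨fun {g g'} hgh => ?_⟩
  have := Fintype.ofFinite (Sylow p G)
  obtain ⟨a, b, c, hab, hac, hbc⟩ := Fintype.two_lt_card_iff.1
    (show 2 < Fintype.card (Sylow p G) by
      rw [← Nat.card_eq_fintype_card, card_points h hp2]; have := h.four; omega)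
  have hfix : ∀ w : Sylow p G, (g⁻¹ * g') • w = w := fun w => by
    rw [mul_smul, ← hgh, inv_smul_smul]
  exact inv_mul_eq_one.1 (three_fix h hp2 hab hbc hac (hfix a) (hfix b) (hfix c))

theorem card_two_point (P b : Sylow p G) (hb : b ≠ P) :
    1 * Nat.card ↥(MulAction.stabilizer G P ⊓ MulAction.stabilizer G b) = p ^ f - 1 := by
  obtain ⟨K, hK⟩ : ∃ K, K = MulAction.stabilizer G P ⊓ MulAction.stabilizer G b := ⟨_, rfl⟩
  rw [← hK]
  have hmem : ∀ k : K, (k : G) • P = P ∧ (k : G) • b = b := fun k => hK.le k.2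
  let F : ↥(P : Subgroup G) × ↥K → ↥(normalizer ((P : Subgroup G) : Set G)) := fun z =>
    ⟨(z.1 : G) * z.2, mul_mem (le_normalizer z.1.2)
      (Sylow.smul_eq_iff_mem_normalizer.1 (hmem z.2).1)⟩
  have hF : Function.Bijective F := by
    constructor
    · rintro ⟨u, k⟩ ⟨v, l⟩ e
      have e' : (u : G) * k = (v : G) * l := congrArg Subtype.val e
      have hb' : (u : G) • b = (v : G) • b := by
        have := congrArg (fun x : G => x • b) e'
        simp only [mul_smul, (hmem k).2, (hmem l).2] at this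
        exact this
      obtain rfl : u = v := Subtype.ext (inv_mul_eq_one.1
        (free h hp2 P b hb (mul_mem (inv_mem u.2) v.2) (by rw [mul_smul, ← hb', inv_smul_smul])))
      obtain rfl : k = l := Subtype.ext (mul_left_cancel e')
      rfl
    · rintro ⟨g, hg⟩
      have hgP : g • P = P := Sylow.smul_eq_iff_mem_normalizer.2 hg
      obtain ⟨u, hu, -⟩ := regular h hp2 P b (g • b) hb fun e =>
        hb (smul_left_cancel g (e.trans hgP.symm))
      have hk : (u : G)⁻¹ * g ∈ K := hK.ge ⟨by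
        show ((u : G)⁻¹ * g) • P = P
        rw [mul_smul, hgP, smul_self_eq h hp2 P (inv_mem u.2)], by
        show ((u : G)⁻¹ * g) • b = b
        rw [mul_smul, ← hu, inv_smul_smul]⟩
      exact ⟨⟨u, ⟨_, hk⟩⟩, Subtype.ext (mul_inv_cancel_left (u : G) g)⟩
  have h1 := Nat.card_congr (Equiv.ofBijective F hF)
  have h2 := card_normalizer h hp2 P
  rw [← h1, Nat.card_prod, h.card_sylow P] at h2
  refine Nat.eq_of_mul_eq_mul_left (pow_pos h.prime.pos f) ?_
  rw [← h2]
  ring

end CfsgLib.Recog.NSEPGL
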