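import Cfsg.Agent.Lib.Recog.PSLOrderCount
import Mathlib.Data.ZMod.Basic

/-!
# Numbers of elements of given order in a group with the order of `PGL(2, q)`

If these numbers are `1`, `q ^ 2`, `q ^ 2 - 1` or even multiples of `q`, and `q ^ 2` occurs, then the
elements of order divisible by `p` have order `p` and there are `q ^ 2` involutions.
-/

set_option autoImplicit false
set_option linter.unusedSectionVars false

namespace CfsgLib.Recog.NSEPGL

open Subgroup
open CfsgLib.Recog.PSLOrder (Hyp)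

universe u

variable {G : Type u} [Group G] [Finite G]

/-- The number of elements of order `n`. -/
noncomputable def cnt (G : Type u) [Group G] (n : ℕ) : ℕ := Nat.card {g : G // orderOf g = n}

theorem exists_of_cnt_pos {n : ℕ} (h : 0 < cnt G n) : ∃ g : G, orderOf g = n := by
  obtain ⟨⟨g, hg⟩⟩ := (Nat.card_pos_iff.1 h).1
  exact ⟨g, hg⟩

theorem cnt_one : cnt G 1 = 1 :=
  Nat.card_eq_one_iff_unique.2 ⟨⟨fun a b => Subtype.ext
    ((orderOf_eq_one_iff.1 a.2).trans (orderOf_eq_one_iff.1 b.2).symm)⟩, ⟨⟨1, orderOf_one⟩⟩⟩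

theorem cnt_even {n : ℕ} (hn : 2 < n) : Even (cnt G n) := by
  classical
  have := Fintype.ofFinite G
  have h : ((Finset.univ.filter fun g : G => orderOf g = n).card : ZMod 2) = 0 := by
    rw [Finset.card_eq_sum_ones, Nat.cast_sum, Nat.cast_one]
    refine Finset.sum_involution (fun g _ => g⁻¹) (fun g _ => by decide) (fun g hg _ e => ?_)
      (fun g hg => by simpa using hg) fun g _ => inv_inv g
    have h2 : g ^ 2 = 1 := by
      rw [sq]
      conv_lhs => arg 1; rw [← e]
      exact inv_mul_cancel g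
    have h3 := Nat.le_of_dvd two_pos (orderOf_dvd_of_pow_eq_one h2)
    rw [(Finset.mem_filter.1 hg).2] at h3
    omega
  rw [cnt, Nat.card_eq_fintype_card, Fintype.card_subtype, even_iff_two_dvd]
  exact (ZMod.natCast_eq_zero_iff _ 2).1 h

/-- A class-wise multiple of the `p`-part. -/
theorem cnt_dvd {p f M : ℕ} (hp : p.Prime) (hcard : Nat.card G = p ^ f * M) {n : ℕ}
    (hn : ∀ g : G, orderOf g = n → ¬ p ∣ Nat.card (centralizer ({g} : Set G))) :
    p ^ f ∣ cnt G n := by
  classical
  have := Fintype.ofFinite G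
  rw [cnt, Nat.card_eq_fintype_card, Fintype.card_subtype,
    Finset.card_eq_sum_card_image ConjClasses.mk]
  refine Finset.dvd_sum fun c hc => ?_
  obtain ⟨a, ha, rfl⟩ := Finset.mem_image.1 hc
  have h1 := CfsgLib.Invol.card_class_mul_card_centralizer a
  have h2 : p ^ f ∣ Nat.card {y : G // IsConj a y} * Nat.card (centralizer ({a} : Set G)) :=
    ⟨M, h1.trans hcard⟩
  refine (Nat.Coprime.dvd_of_dvd_mul_right (Nat.Coprime.pow_left f
    (hp.coprime_iff_not_dvd.2 (hn a (Finset.mem_filter.1 ha).2))) h2).trans (dvd_of_eq ?_)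
  rw [Nat.card_eq_fintype_card, Fintype.card_subtype]
  congr 1
  ext y
  simp only [Finset.mem_filter, Finset.mem_univ, true_and, ConjClasses.mk_eq_mk_iff_isConj]
  refine ⟨fun hy => ⟨?_, hy.symm⟩, fun hy => hy.2.symm⟩
  obtain ⟨g, rfl⟩ := isConj_iff.1 hy
  exact ((MulAut.conj g).orderOf_eq a).trans (Finset.mem_filter.1 ha).2

/-- The values of the element counts of `PGL(2, q)`. -/
theorem values_of_hyp {p f M : ℕ} (h : Hyp G p f M 1) (h2 : cnt G 2 = p ^ f * p ^ f) {n : ℕ}
    (hn : 0 < cnt G n) : cnt G n = 1 ∨ cnt G n = p ^ f * p ^ f ∨ cnt G n = M ∨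
      (Even (cnt G n) ∧ p ^ f ∣ cnt G n) := by
  by_cases e1 : n = 1
  · exact Or.inl (by rw [e1, cnt_one])
  by_cases e2 : n = 2
  · exact Or.inr (Or.inl (e2 ▸ h2))
  by_cases ep : n = p
  · exact Or.inr (Or.inr (Or.inl (ep ▸ h.count.trans (one_mul M))))
  obtain ⟨g₀, hg₀⟩ := exists_of_cnt_pos hn
  have h2n : 2 < n := by
    have := hg₀ ▸ orderOf_pos g₀
    omega
  refine Or.inr (Or.inr (Or.inr ⟨cnt_even h2n, cnt_dvd h.prime h.card fun g hg hd => ?_⟩))
  have : Fact p.Prime := ⟨h.prime⟩
  obtain ⟨x, hx⟩ := exists_prime_orderOf_dvd_card' p hd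
  have hc : Commute (x : G) g := mem_centralizer_singleton_iff.1 x.2
  rw [← orderOf_coe] at hx
  have hpn : ¬ p ∣ n := fun d => ep (by rw [← hg] at d ⊢; exact h.isolated g d)
  have ho := hc.orderOf_mul_eq_mul_orderOf_of_coprime
    (by rw [hx, hg]; exact h.prime.coprime_iff_not_dvd.2 hpn)
  rw [hx, hg] at ho
  have := h.isolated _ (ho ▸ dvd_mul_right p n)
  rw [ho] at this
  exact e1 ((Nat.mul_eq_left h.prime.ne_zero).1 this)

/-- The values determine the isolation of the elements of order `p` and the number of involutions. -/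
theorem hyp_of_values {p f M : ℕ} (hp : p.Prime) (hp2 : p ≠ 2) (hf : 0 < f) (hq : 4 ≤ p ^ f)
    (hcard : Nat.card G = p ^ f * M) (hM : M + 1 = p ^ f * p ^ f)
    (hval : ∀ n, 0 < cnt G n → cnt G n = 1 ∨ cnt G n = p ^ f * p ^ f ∨ cnt G n = M ∨
      (Even (cnt G n) ∧ p ^ f ∣ cnt G n))
    (hsq : ∃ n, cnt G n = p ^ f * p ^ f) :
    Hyp G p f M 1 ∧ cnt G 2 = p ^ f * p ^ f := by
  classical
  have : Fact p.Prime := ⟨hp⟩
  have := Fintype.ofFinite G
  set q := p ^ f with hqdef
  have : NeZero q := ⟨by omega⟩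
  have hqq : Odd (q * q) := ((hp.odd_of_ne_two hp2).pow).mul ((hp.odd_of_ne_two hp2).pow)
  -- involutions
  have h2 : cnt G 2 = q * q := by
    obtain ⟨n, hn⟩ := hsq
    have h4 : 16 ≤ q * q := Nat.mul_le_mul hq hq
    obtain ⟨g, hg⟩ := exists_of_cnt_pos (G := G) (n := n) (by omega)
    have h0 := hg ▸ orderOf_pos g
    rcases (show n = 1 ∨ n = 2 ∨ 2 < n by omega) with rfl | rfl | h
    · rw [cnt_one] at hn; omega
    · exact hn
    · exact absurd (hn ▸ cnt_even h) (Nat.not_even_iff_odd.2 hqq)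
  have hM0 : 0 < M := by
    rcases Nat.eq_zero_or_pos M with e | e
    · rw [e, mul_zero] at hcard; exact absurd hcard Nat.card_pos.ne'
    · exact e
  have hMq : (M : ZMod q) = -1 := by
    rw [eq_neg_iff_add_eq_zero, ← Nat.cast_one, ← Nat.cast_add, hM, Nat.cast_mul, ZMod.natCast_self,
      mul_zero]
  have hpdvd : p ∣ Nat.card G := hcard ▸ (dvd_pow_self p hf.ne').mul_right M
  -- residues of the counts
  have hres : ∀ n ∈ Finset.univ.image (orderOf : G → ℕ), n ≠ 1 → cnt G n ≠ M →
      (cnt G n : ZMod q) = 0 := by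
    intro n hn h1 hne
    obtain ⟨g, -, hg⟩ := Finset.mem_image.1 hn
    have hpos : 0 < cnt G n := by
      have : Nonempty {g : G // orderOf g = n} := ⟨⟨g, hg⟩⟩
      exact Nat.card_pos
    have h0 := hg ▸ orderOf_pos g
    by_cases e2 : n = 2
    · rw [e2, h2, Nat.cast_mul, ZMod.natCast_self, mul_zero]
    · have hev := cnt_even (G := G) (show 2 < n by omega)
      rcases hval n hpos with e | e | e | ⟨-, e⟩
      · rw [e] at hev; exact absurd hev (by decide)
      · exact absurd (e ▸ hev) (Nat.not_even_iff_odd.2 hqq)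
      · exact absurd e hne
      · exact (ZMod.natCast_eq_zero_iff _ q).2 e
  have hfib : ∀ U : Finset G, (∀ g h : G, g ∈ U → orderOf h = orderOf g → h ∈ U) →
      U.card = ∑ n ∈ U.image orderOf, cnt G n := by
    intro U hU
    rw [Finset.card_eq_sum_card_image orderOf U]
    refine Finset.sum_congr rfl fun n hn => ?_
    obtain ⟨g, hg, rfl⟩ := Finset.mem_image.1 hn
    rw [cnt, Nat.card_eq_fintype_card, Fintype.card_subtype]
    congr 1
    ext h
    simp only [Finset.mem_filter, Finset.mem_univ, true_and, and_iff_right_iff_imp]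
    exact hU g h hg
  -- only the order `p` has count `M`
  have hcp : cnt G p = M := by
    by_contra hne
    obtain ⟨g, hg⟩ := exists_prime_orderOf_dvd_card' p hpdvd
    have h0 := (ZMod.natCast_eq_zero_iff _ q).1
      (hres p (Finset.mem_image.2 ⟨g, Finset.mem_univ _, hg⟩) hp.one_lt.ne' hne)
    have h1 := CfsgLib.StructC.dvd_card_pow_eq_one (G := G) p hpdvd
    have h3 : Nat.card {x : G // x ^ p = 1} = cnt G p + 1 := by
      simp only [cnt, Nat.card_eq_fintype_card, Fintype.card_subtype]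
      rw [show (Finset.univ.filter fun x : G => x ^ p = 1) =
        insert 1 (Finset.univ.filter fun x : G => orderOf x = p) from ?_, Finset.card_insert_of_notMem]
      · simpa using hp.one_lt.ne
      · ext x
        simp only [Finset.mem_filter, Finset.mem_univ, true_and, Finset.mem_insert,
          ← orderOf_dvd_iff_pow_eq_one, Nat.dvd_prime hp, orderOf_eq_one_iff]
    rw [h3] at h1
    exact hp.not_dvd_one ((Nat.dvd_add_right ((dvd_pow_self p hf.ne').trans h0)).1 h1)
  obtain ⟨A, hA⟩ : ∃ A, A = (Finset.univ.image (orderOf : G → ℕ)).filter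
      fun n => n ≠ 1 ∧ cnt G n = M := ⟨_, rfl⟩
  have hpA : p ∈ A := by
    obtain ⟨g, hg⟩ := exists_prime_orderOf_dvd_card' p hpdvd
    rw [hA]
    exact Finset.mem_filter.2 ⟨Finset.mem_image.2 ⟨g, Finset.mem_univ _, hg⟩, hp.one_lt.ne', hcp⟩
  have h1mem : (1 : ℕ) ∈ Finset.univ.image (orderOf : G → ℕ) :=
    Finset.mem_image.2 ⟨1, Finset.mem_univ _, orderOf_one⟩
  have hA1 : 1 ∉ A := by rw [hA]; simp
  have htot : q * M = ∑ n ∈ Finset.univ.image (orderOf : G → ℕ), cnt G n := by
    rw [← hfib _ (fun _ h _ _ => Finset.mem_univ h), Finset.card_univ, ← Nat.card_eq_fintype_card, hcard]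
  have hAlt : A.card * M < q * M := by
    rw [htot]
    calc A.card * M = ∑ n ∈ A, cnt G n := by
          rw [← smul_eq_mul, ← Finset.sum_const]
          exact Finset.sum_congr rfl fun n hn => (Finset.mem_filter.1 (hA ▸ hn)).2.2.symm
      _ < ∑ n ∈ insert 1 A, cnt G n := by rw [Finset.sum_insert hA1, cnt_one]; omega
      _ ≤ _ := Finset.sum_le_sum_of_subset (Finset.insert_subset h1mem (hA ▸ Finset.filter_subset _ _))
  have hsumA : ∑ n ∈ A, (cnt G n : ZMod q) = ∑ _n ∈ A, (-1 : ZMod q) :=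
    Finset.sum_congr rfl fun n hn => by rw [hA, Finset.mem_filter] at hn; rw [hn.2.2, hMq]
  have hsub : ∑ n ∈ insert 1 A, (cnt G n : ZMod q) =
      ∑ n ∈ Finset.univ.image (orderOf : G → ℕ), (cnt G n : ZMod q) := by
    refine Finset.sum_subset (Finset.insert_subset h1mem (hA ▸ Finset.filter_subset _ _))
      fun n hn hn' => ?_
    have h1 : n ≠ 1 := fun e1 => hn' (e1 ▸ Finset.mem_insert_self 1 A)
    refine hres n hn h1 fun eM => hn' (Finset.mem_insert_of_mem ?_)
    rw [hA]
    exact Finset.mem_filter.2 ⟨hn, h1, eM⟩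
  have hA1' : A.card = 1 := by
    have e := congrArg (fun k : ℕ => (k : ZMod q)) htot
    simp only [Nat.cast_mul, ZMod.natCast_self, zero_mul, Nat.cast_sum] at e
    rw [← hsub,
      Finset.sum_insert hA1, cnt_one, Nat.cast_one,
      hsumA, Finset.sum_const, nsmul_eq_mul, mul_neg_one, ← sub_eq_add_neg, eq_comm, sub_eq_zero] at e
    have e' : ((1 : ℕ) : ZMod q) = (A.card : ZMod q) := by rw [Nat.cast_one, e]
    have := (ZMod.natCast_eq_natCast_iff' _ _ q).1 e'
    rw [Nat.mod_eq_of_lt (by omega : 1 < q), Nat.mod_eq_of_lt (Nat.lt_of_mul_lt_mul_right hAlt)] at this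
    exact this.symm
  -- the elements of order prime to `p`
  obtain ⟨R, hR⟩ : ∃ R, R = Finset.univ.filter fun g : G => ¬ p ∣ orderOf g := ⟨_, rfl⟩
  have hRM : R.card = Nat.card {x : G // x ^ M = 1} := by
    rw [Nat.card_eq_fintype_card, Fintype.card_subtype, hR]
    congr 1
    ext x
    simp only [Finset.mem_filter, Finset.mem_univ, true_and, ← orderOf_dvd_iff_pow_eq_one]
    constructor
    · intro h
      refine (Nat.Coprime.pow_right f (hp.coprime_iff_not_dvd.2 h).symm).dvd_of_dvd_mul_left ?_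
      rw [← hcard]; exact orderOf_dvd_natCard x
    · intro h hd
      have hpM := hd.trans h
      exact hp.not_dvd_one ((Nat.dvd_add_right hpM).1 (hM ▸ (dvd_pow_self p hf.ne').mul_right q))
  obtain ⟨c, hc⟩ := CfsgLib.StructC.dvd_card_pow_eq_one (G := G) M (hcard ▸ dvd_mul_left M q)
  have hRres : (R.card : ZMod q) = 1 := by
    rw [hfib R (fun g h hg e => by rw [hR, Finset.mem_filter] at hg ⊢; exact ⟨Finset.mem_univ _, e ▸ hg.2⟩),
      Nat.cast_sum, Finset.sum_eq_single 1 (fun n hn h1 => ?_) (fun h => absurd ?_ h), cnt_one,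
      Nat.cast_one]
    · obtain ⟨g, hg, rfl⟩ := Finset.mem_image.1 hn
      refine hres _ (Finset.mem_image.2 ⟨g, Finset.mem_univ _, rfl⟩) h1 fun eM => ?_
      have : orderOf g ∈ A := hA ▸ Finset.mem_filter.2
        ⟨Finset.mem_image.2 ⟨g, Finset.mem_univ _, rfl⟩, h1, eM⟩
      have e := Finset.card_le_one.1 hA1'.le _ this _ hpA
      rw [hR, Finset.mem_filter] at hg
      exact hg.2 (e ▸ dvd_refl p)
    · exact Finset.mem_image.2 ⟨1, by rw [hR]; simpa using hp.ne_one, orderOf_one⟩
  have hsplit := Finset.card_filter_add_card_filter_not (s := (Finset.univ : Finset G))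
    (fun g : G => p ∣ orderOf g)
  rw [Finset.card_univ, ← Nat.card_eq_fintype_card, hcard] at hsplit
  rw [← hR] at hsplit
  have hsub : (Finset.univ.filter fun g : G => orderOf g = p) ⊆
      Finset.univ.filter fun g : G => p ∣ orderOf g := fun g hg => by
    simp only [Finset.mem_filter, Finset.mem_univ, true_and] at hg ⊢
    rw [hg]
  have hPp : (Finset.univ.filter fun g : G => orderOf g = p).card = M := by
    rw [← Fintype.card_subtype, ← Nat.card_eq_fintype_card]; exact hcp
  have hle := (Finset.card_le_card hsub)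
  rw [hPp] at hle
  have hceq : c + 1 = q := by
    have hclt : c < q := by
      by_contra hcq
      have := Nat.mul_le_mul_left M (not_lt.1 hcq)
      rw [mul_comm M q, ← hc, ← hRM] at this
      omega
    have e : (((c + 1 : ℕ)) : ZMod q) = 0 := by
      have := hRres
      rw [hRM, hc, Nat.cast_mul, hMq, neg_one_mul] at this
      rw [Nat.cast_add, Nat.cast_one, ← neg_neg (c : ZMod q), this, neg_add_cancel]
    have := Nat.le_of_dvd (Nat.succ_pos c) ((ZMod.natCast_eq_zero_iff _ q).1 e)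
    omega
  have hsing : (Finset.univ.filter fun g : G => p ∣ orderOf g).card = M := by
    rw [hRM, hc, ← hceq] at hsplit
    have : (c + 1) * M = M * c + M := by ring
    omega
  have heq := Finset.eq_of_subset_of_card_le hsub (by rw [hsing, hPp])
  refine ⟨⟨hp, hf, hq, hcard, (one_mul M).symm ▸ hM, one_pos, hp.one_lt, fun g hg => ?_⟩, h2⟩
  have : g ∈ Finset.univ.filter fun g : G => orderOf g = p :=
    heq ▸ Finset.mem_filter.2 ⟨Finset.mem_univ _, hg⟩
  exact (Finset.mem_filter.1 this).2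

end CfsgLib.Recog.NSEPGL
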