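import Cfsg.Agent.Lib.Recog.NSEPGL.Model

/-!
# `PGL(2, q)`, `q` odd, from its order and the numbers of elements of equal order
-/

set_option autoImplicit false
set_option linter.unusedSectionVars false

namespace CfsgLib.Recog.NSEPGL

open Matrix CfsgLib.Geom.Moebius
open scoped MatrixGroups
open CfsgLib.Recog.PSLOrder (Hyp)

theorem main {F : Type*} [Field F] [Fintype F] (hodd : Odd (Fintype.card F)) (h3 : 3 < Fintype.card F)
    {G : Type*} [Group G] [Finite G] (hcard : Nat.card G = Nat.card PGL(2, F))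
    (hnse : {c : ℕ | 0 < c ∧ ∃ n : ℕ, c = cnt G n} = {c : ℕ | 0 < c ∧ ∃ n : ℕ, c = cnt PGL(2, F) n}) :
    Nonempty (G ≃* PGL(2, F)) := by
  obtain ⟨p, hchar⟩ := CharP.exists F
  obtain ⟨⟨f, hf⟩, hp, hq⟩ := FiniteField.card F p
  change Fintype.card F = p ^ f at hq
  have : Fact p.Prime := ⟨hp⟩
  have hp2 : p ≠ 2 := fun e => by
    rw [hq, e] at hodd
    exact (Nat.not_even_iff_odd.2 hodd) ((Nat.even_pow).2 ⟨even_two, hf.ne'⟩)
  have h4 : 4 ≤ p ^ f := by omega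
  have : Finite PGL(2, F) := finite_pgl_two
  have hP := hyp hp2 hq hf h4
  have hP2 : cnt PGL(2, F) 2 = p ^ f * p ^ f :=
    card_invol_of_swaps hP hp2 fun g A B hAB h1 h2 => swaps hp2 hq hf h4 g A B hAB h1 h2
  have hval : ∀ n, 0 < cnt G n → cnt G n = 1 ∨ cnt G n = p ^ f * p ^ f ∨
      cnt G n = (p ^ f + 1) * (p ^ f - 1) ∨ (Even (cnt G n) ∧ p ^ f ∣ cnt G n) := by
    intro n hn
    obtain ⟨hpos, m, hm⟩ := hnse.le ⟨hn, n, rfl⟩
    rw [hm] at hpos ⊢
    exact values_of_hyp hP hP2 hpos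
  have hsq : ∃ n, cnt G n = p ^ f * p ^ f := by
    obtain ⟨-, n, hn⟩ := hnse.ge ⟨show 0 < p ^ f * p ^ f from Nat.mul_pos (by omega) (by omega), 2, hP2.symm⟩
    exact ⟨n, hn.symm⟩
  obtain ⟨hG, h2⟩ := hyp_of_values hp hp2 hf h4 (hcard.trans hP.card)
    ((one_mul ((p ^ f + 1) * (p ^ f - 1))).symm ▸ hP.eq) hval hsq
  obtain ⟨K, iK, iKf, hK, ⟨e⟩⟩ := recognise hG hp2 h2
  have hKF : Fintype.card K = Fintype.card F := hK.trans hq.symm
  let ψ : K →+* F := (FiniteField.ringEquivOfCardEq hKF).toRingHom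
  have : Finite PGL(2, K) := finite_pgl_two
  have hb : Function.Bijective (extHom ψ) :=
    (Nat.bijective_iff_injective_and_card _).2
      ⟨extHom_injective ψ, by rw [card_pgl_two, card_pgl_two, hKF]⟩
  exact ⟨e.trans (MulEquiv.ofBijective (extHom ψ) hb)⟩

end CfsgLib.Recog.NSEPGL
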