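import Cfsg.Agent.Lib.Recog.NSEPGL.Swap
import Cfsg.Agent.Lib.Geom.MoebiusField
import Cfsg.Agent.Lib.Geom.PairStab

/-!
# `PGL(2, q)` for odd `q`

Its elements of order divisible by `p` have order `p` and it has `q ^ 2` involutions.
-/

set_option autoImplicit false
set_option linter.unusedSectionVars false

namespace CfsgLib.Recog.NSEPGL

open Matrix CfsgLib.Geom.Moebius
open scoped MatrixGroups
open CfsgLib.Recog.PSLOrder (Hyp)

variable {F : Type*} [Field F] [Fintype F] {p f : ℕ} [Fact p.Prime] [CharP F p]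

omit [Fintype F] in
theorem aff_pow_one (b : F) : ∀ k : ℕ, aff (1 : Fˣ) b ^ k = aff 1 ((k : F) * b)
  | 0 => by rw [pow_zero, Nat.cast_zero, zero_mul, aff_one]
  | k + 1 => by
    rw [pow_succ, aff_pow_one b k, aff_mul, mul_one, Nat.cast_succ, add_mul, one_mul, Units.val_one,
      one_mul, add_comm]

omit [Fintype F] in
theorem aff_pow_fst (a : Fˣ) (b : F) : ∀ k : ℕ, ∃ c : F, aff a b ^ k = aff (a ^ k) c
  | 0 => ⟨0, by rw [pow_zero, pow_zero, aff_one]⟩
  | k + 1 => by
    obtain ⟨c, hc⟩ := aff_pow_fst a b k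
    exact ⟨_, by rw [pow_succ, hc, aff_mul, ← pow_succ]⟩

theorem card_line_eq : Nat.card (Line F) = Fintype.card F + 1 := CfsgLib.Classical.card_line

/-- An element of order `p` is conjugate to a translation. -/
theorem exists_translation (hq : Fintype.card F = p ^ f) (hf : 0 < f) {u : PGL(2, F)}
    (hu : orderOf u = p) : ∃ (m : PGL(2, F)) (b : F), b ≠ 0 ∧ m⁻¹ * u * m = aff 1 b := by
  have : Finite PGL(2, F) := finite_pgl_two
  have hp : IsPGroup p (Subgroup.zpowers u) :=
    IsPGroup.of_card (n := 1) (by rw [Nat.card_zpowers, hu, pow_one])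
  obtain ⟨P, hP⟩ := hp.nonempty_fixed_point_of_prime_not_dvd_card (Line F) (by
    rw [card_line_eq, hq]
    exact fun h => (Fact.out : p.Prime).not_dvd_one ((Nat.dvd_add_right (dvd_pow_self p hf.ne')).1 h))
  have hPu : u • P = P := hP ⟨u, Subgroup.mem_zpowers u⟩
  obtain ⟨m, hm⟩ := exists_map1 P
  obtain ⟨a, b, hab⟩ := exists_aff_of_fix (g := m⁻¹ * u * m) (by
    rw [mul_smul, mul_smul, hm, hPu, ← hm, inv_smul_smul])
  have ho : orderOf (m⁻¹ * u * m) = p := by
    rw [← hu]
    exact (congrArg orderOf (by simp [MulAut.conj_apply] :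
      m⁻¹ * u * m = MulAut.conj m⁻¹ u)).trans ((MulAut.conj m⁻¹).orderOf_eq u)
  obtain ⟨c, hc⟩ := aff_pow_fst a b p
  have hone : aff (a ^ p) c = aff 1 0 := by
    rw [← hc, ← hab, ← ho, pow_orderOf_eq_one, aff_one]
  have ha : a = 1 := by
    have h1 := congrArg (Units.val) (aff_inj hone).1
    rw [Units.val_pow_eq_pow_val, Units.val_one, ← frobenius_def, ← map_one (frobenius F p)] at h1
    exact Units.ext (frobenius_inj F p h1)
  subst ha
  refine ⟨m, b, fun hb => ?_, hab⟩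
  rw [hab, hb, aff_one, orderOf_one] at ho
  exact (Fact.out : p.Prime).one_lt.ne ho

/-- The fixed point of an element of order `p` is unique. -/
theorem fix_unique (hq : Fintype.card F = p ^ f) (hf : 0 < f) {u : PGL(2, F)} (hu : orderOf u = p) :
    ∃! P : Line F, u • P = P := by
  obtain ⟨m, b, hb, hm⟩ := exists_translation hq hf hu
  have hum : ∀ P : Line F, u • P = P ↔ aff 1 b • (m⁻¹ • P) = m⁻¹ • P := fun P => by
    rw [← hm, mul_smul, mul_smul, smul_inv_smul, smul_left_cancel_iff]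
  refine ⟨m • inf, (hum _).2 (by rw [inv_smul_smul, aff_smul_inf]), fun P hP => ?_⟩
  rcases fixed_aff_cases ((hum P).1 hP) with h | ⟨h, -⟩ | ⟨-, h⟩
  · rw [← inv_smul_eq_iff]; exact h
  · exact absurd rfl h
  · exact absurd h hb

/-- Elements of order `p` with a common fixed point commute. -/
theorem commute_of_fix (hq : Fintype.card F = p ^ f) (hf : 0 < f) {u v : PGL(2, F)}
    (hu : orderOf u = p) (hv : orderOf v = p) {P : Line F} (hPu : u • P = P) (hPv : v • P = P) :
    Commute u v := by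
  obtain ⟨m, hm⟩ := exists_map1 P
  have key : ∀ w : PGL(2, F), orderOf w = p → w • P = P → ∃ b, m⁻¹ * w * m = aff 1 b := by
    intro w hw hPw
    obtain ⟨a, b, hab⟩ := exists_aff_of_fix (g := m⁻¹ * w * m) (by
      rw [mul_smul, mul_smul, hm, hPw, ← hm, inv_smul_smul])
    by_cases ha : a = 1
    · exact ⟨b, ha ▸ hab⟩
    · exfalso
      have h1 := aff_smul_fixed b ha
      rw [← hab, mul_smul, mul_smul, inv_smul_eq_iff] at h1
      have h2 := (fix_unique hq hf hw).unique hPw h1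
      rw [← hm, smul_left_cancel_iff] at h2
      exact pt_ne_inf _ h2.symm
  obtain ⟨b, hb⟩ := key u hu hPu
  obtain ⟨c, hc⟩ := key v hv hPv
  have e : (m⁻¹ * u * m) * (m⁻¹ * v * m) = (m⁻¹ * v * m) * (m⁻¹ * u * m) := by
    rw [hb, hc, aff_mul, aff_mul]
    simp [add_comm]
  calc u * v = m * ((m⁻¹ * u * m) * (m⁻¹ * v * m)) * m⁻¹ := by group
    _ = m * ((m⁻¹ * v * m) * (m⁻¹ * u * m)) * m⁻¹ := by rw [e]
    _ = v * u := by group

/-- Elements of order divisible by `p` have order `p`. -/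
theorem isolated (hq : Fintype.card F = p ^ f) (hf : 0 < f) (g : PGL(2, F)) (hg : p ∣ orderOf g) :
    orderOf g = p := by
  have : Finite PGL(2, F) := finite_pgl_two
  have hp := (Fact.out : p.Prime)
  obtain ⟨k, hk⟩ := hg
  have hk0 : k ≠ 0 := fun e => by rw [e, mul_zero] at hk; exact (orderOf_pos g).ne' hk
  have hu : orderOf (g ^ k) = p := by
    rw [orderOf_pow' g hk0, hk, Nat.gcd_mul_left_left,
      Nat.mul_div_cancel _ (Nat.pos_of_ne_zero hk0)]
  obtain ⟨m, b, hb, hm⟩ := exists_translation hq hf hu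
  obtain ⟨g', hg'⟩ : ∃ g', g' = m⁻¹ * g * m := ⟨_, rfl⟩
  have hc : g' * aff 1 b = aff 1 b * g' := by
    rw [hg', ← hm]
    calc m⁻¹ * g * m * (m⁻¹ * g ^ k * m) = m⁻¹ * (g * g ^ k) * m := by group
      _ = m⁻¹ * (g ^ k * g) * m := by rw [(Commute.self_pow g k).eq]
      _ = _ := by group
  have hinf : g' • (inf : Line F) = inf := by
    have h1 : aff 1 b • g' • (inf : Line F) = g' • inf := by
      rw [← mul_smul, ← hc, mul_smul, aff_smul_inf]
    rcases fixed_aff_cases h1 with h | ⟨h, -⟩ | ⟨-, h⟩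
    · exact h
    · exact absurd rfl h
    · exact absurd h hb
  obtain ⟨c, d, hcd⟩ := exists_aff_of_fix hinf
  rw [hcd, aff_mul, aff_mul] at hc
  have hc1 : c = 1 := by
    have e := (aff_inj hc).2
    rw [Units.val_one, one_mul] at e
    have e' : ((c : F) - 1) * b = 0 := by linear_combination e
    exact Units.ext (sub_eq_zero.1 ((mul_eq_zero.1 e').resolve_right hb))
  subst hc1
  have hpow : g ^ p = 1 := by
    have e : g = m * g' * m⁻¹ := by rw [hg']; group
    rw [e, conj_pow, hcd, aff_pow_one, CharP.cast_eq_zero, zero_mul, aff_one, mul_one, mul_inv_cancel]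
  rcases (Nat.dvd_prime hp).1 (orderOf_dvd_of_pow_eq_one hpow) with e | e
  · rw [e] at hk
    exact absurd (Nat.eq_one_of_mul_eq_one_right hk.symm) hp.one_lt.ne'
  · exact e

theorem hyp (hp2 : p ≠ 2) (hq : Fintype.card F = p ^ f) (hf : 0 < f) (h4 : 4 ≤ p ^ f) :
    Hyp PGL(2, F) p f ((p ^ f + 1) * (p ^ f - 1)) 1 where
  prime := Fact.out
  pos := hf
  four := h4
  card := by rw [card_pgl_two, hq]; ring
  eq := by
    obtain ⟨k, hk⟩ := Nat.exists_eq_add_of_le' (show 1 ≤ p ^ f by omega)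
    rw [hk, Nat.add_sub_cancel]
    ring
  dpos := one_pos
  dlt := (Fact.out : p.Prime).one_lt
  isolated := isolated hq hf

/-- Elements interchanging two Sylow subgroups are involutions. -/
theorem swaps (hp2 : p ≠ 2) (hq : Fintype.card F = p ^ f) (hf : 0 < f) (h4 : 4 ≤ p ^ f)
    (g : PGL(2, F)) (A B : Sylow p PGL(2, F)) (hAB : A ≠ B) (h1 : g • A = B) (h2 : g • B = A) :
    g * g = 1 := by
  have : Finite PGL(2, F) := finite_pgl_two
  have h := hyp hp2 hq hf h4
  have hex : ∀ R : Sylow p PGL(2, F), ∃ x ∈ (R : Subgroup PGL(2, F)), x ≠ 1 ∧ orderOf x = p := by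
    intro R
    have : Nontrivial (R : Subgroup PGL(2, F)) := Finite.one_lt_card_iff_nontrivial.1
      (by rw [h.card_sylow R]; omega)
    obtain ⟨⟨x, hx⟩, hne⟩ := exists_ne (1 : (R : Subgroup PGL(2, F)))
    exact ⟨x, hx, fun e => hne (Subtype.ext e), h.orderOf_eq R.2 hx fun e => hne (Subtype.ext e)⟩
  obtain ⟨x, hxA, hx1, hx⟩ := hex A
  obtain ⟨y, hyB, hy1, hy⟩ := hex B
  obtain ⟨P, hP, hPu⟩ := fix_unique hq hf hx
  obtain ⟨Q, hQ, hQu⟩ := fix_unique hq hf hy
  have fixA : ∀ w ∈ (A : Subgroup PGL(2, F)), w • P = P := fun w hw => hPu _ (by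
    show x • w • P = w • P
    rw [← mul_smul, sylow_comm h hp2 A x hxA w hw, mul_smul, hP])
  have fixB : ∀ w ∈ (B : Subgroup PGL(2, F)), w • Q = Q := fun w hw => hQu _ (by
    show y • w • Q = w • Q
    rw [← mul_smul, sylow_comm h hp2 B y hyB w hw, mul_smul, hQ])
  have hPQ : P ≠ Q := by
    intro e
    have hc := commute_of_fix hq hf hx hy hP (e ▸ hQ)
    have hyA : y ∈ (A : Subgroup PGL(2, F)) := by
      rw [← h.cen_eq_of_ti (ti h hp2) A hxA hx1]
      exact Subgroup.mem_centralizer_singleton_iff.2 hc.symm.eq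
    exact hAB (mem_unique h hp2 hyA hyB hy1)
  have key : ∀ (R S : Sylow p PGL(2, F)) (w : PGL(2, F)) (X Y : Line F), g • R = S →
      w ∈ (R : Subgroup PGL(2, F)) → orderOf w = p → w • X = X →
      (∀ z ∈ (S : Subgroup PGL(2, F)), z • Y = Y) → g • X = Y := by
    intro R S w X Y e hw hwo hwX hS
    have hmem : g * w * g⁻¹ ∈ (S : Subgroup PGL(2, F)) := by
      rw [← e, Sylow.coe_subgroup_smul]
      exact Subgroup.mem_map_of_mem (MulAut.conj g).toMonoidHom hw
    have ho : orderOf (g * w * g⁻¹) = p := ((MulAut.conj g).orderOf_eq w).trans hwo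
    refine (fix_unique hq hf ho).unique ?_ (hS _ hmem)
    rw [mul_smul, mul_smul, inv_smul_smul, hwX]
  have hgP := key A B x P Q h1 hxA hx hP fixB
  have hgQ := key B A y Q P h2 hyB hy hQ fixA
  obtain ⟨m, hm0, hm1⟩ := exists_map2 hPQ
  obtain ⟨g', hg'⟩ : ∃ g', g' = m⁻¹ * g * m := ⟨_, rfl⟩
  have e0 : g' • (inf : Line F) = pt 0 := by
    rw [hg', mul_smul, mul_smul, hm0, hgP, ← hm1, inv_smul_smul]
  have e1 : g' • pt (0 : F) = inf := by
    rw [hg', mul_smul, mul_smul, hm1, hgQ, ← hm0, inv_smul_smul]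
  obtain ⟨a, b, hab⟩ := exists_aff_of_fix (g := g' * swapElem) (by rw [mul_smul, swap_smul_inf, e1])
  have hb : b = 0 := by
    have e2 : (g' * swapElem) • pt (0 : F) = pt 0 := by rw [mul_smul, swap_smul_zero, e0]
    rw [hab, aff_smul_pt, mul_zero, zero_add] at e2
    exact pt_injective e2
  have hg2 : g' = aff a 0 * swapElem := by
    rw [← hb, ← hab, mul_assoc, swap_mul_swap, mul_one]
  have hsq : g' * g' = 1 := by
    refine eq_of_agree ?_ ?_ ?_
    · rw [mul_smul, e0, e1, one_smul]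
    · rw [mul_smul, e1, e0, one_smul]
    · simp only [hg2, mul_smul, swap_smul_pt (one_ne_zero : (1 : F) ≠ 0), aff_smul_pt, one_smul]
      rw [swap_smul_pt (by simp), aff_smul_pt]
      congr 1
      simp
  have e : g = m * g' * m⁻¹ := by rw [hg']; group
  rw [e, show m * g' * m⁻¹ * (m * g' * m⁻¹) = m * (g' * g') * m⁻¹ by group, hsq, mul_one, mul_inv_cancel]

end CfsgLib.Recog.NSEPGL
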