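import Cfsg.Agent.Lib.Recog.NSEPGL.Action
import Cfsg.Agent.Lib.Perm.SharplyThree

/-!
# The elements interchanging two Sylow `p`-subgroups

There are `q ^ 2` involutions if and only if every element interchanging two Sylow `p`-subgroups is
an involution; then the two-point stabilisers are abelian and `G` is `PGL(2, q)`.
-/

set_option autoImplicit false
set_option linter.unusedSectionVars false

namespace CfsgLib.Recog.NSEPGL

open Subgroup
open CfsgLib.Recog.PSLOrder (Hyp)

universe u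

local notation "Cen[" x "]" => Subgroup.centralizer ({x} : Set _)

variable {G : Type u} [Group G] [Finite G] {p f M : ℕ} [Fact p.Prime]
  (h : Hyp G p f M 1) (hp2 : p ≠ 2)
include h hp2

theorem odd_q : Odd (p ^ f) := (h.prime.odd_of_ne_two hp2).pow

theorem exists_ne_point (a : Sylow p G) : ∃ b, b ≠ a := by
  classical
  have := Fintype.ofFinite (Sylow p G)
  exact Fintype.exists_ne_of_one_lt_card (by
    rw [← Nat.card_eq_fintype_card, card_points h hp2]; have := h.four; omega) a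

theorem existsUnique_invol {a b : Sylow p G} (hab : a ≠ b) :
    ∃! t : G, orderOf t = 2 ∧ t • a = a ∧ t • b = b := by
  have hK := card_two_point h hp2 a b hab.symm
  rw [one_mul] at hK
  obtain ⟨k, hk⟩ := odd_q h hp2
  haveI : Fact (Nat.Prime 2) := ⟨Nat.prime_two⟩
  obtain ⟨t, ht⟩ := exists_prime_orderOf_dvd_card'
    (G := (MulAction.stabilizer G a ⊓ MulAction.stabilizer G b : Subgroup G)) 2
    (by rw [hK, hk]; exact ⟨k, by omega⟩)
  rw [← orderOf_coe] at ht
  refine ⟨t, ⟨ht, t.2.1, t.2.2⟩, ?_⟩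
  rintro s ⟨hs, hsa, hsb⟩
  have hsN := Sylow.smul_eq_iff_mem_normalizer.1 hsa
  have htN := Sylow.smul_eq_iff_mem_normalizer.1 (show (t : G) • a = a from t.2.1)
  have : Nontrivial (a : Subgroup G) := Finite.one_lt_card_iff_nontrivial.1
    (by rw [h.card_sylow a]; have := h.four; omega)
  obtain ⟨⟨x, hx⟩, hne⟩ := exists_ne (1 : (a : Subgroup G))
  have hx1 : x ≠ 1 := fun e => hne (Subtype.ext e)
  have h1 := (invol_inverts h hp2 a hs hsN).1 x hx
  have h2 := (invol_inverts h hp2 a ht htN).1 x hx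
  have hc : s⁻¹ * t ∈ Cen[x] := by
    rw [mem_centralizer_singleton_iff]
    calc s⁻¹ * t * x = s⁻¹ * (t * x * (t : G)⁻¹) * t := by group
      _ = s⁻¹ * (s * x * s⁻¹) * t := by rw [h1, h2]
      _ = x * (s⁻¹ * t) := by group
  rw [h.cen_eq_of_ti (ti h hp2) a hx hx1] at hc
  exact inv_mul_eq_one.1 (free h hp2 a b hab.symm hc
    (by rw [mul_smul, show (t : G) • b = b from t.2.2, inv_smul_eq_iff, hsb]))

theorem existsUnique_other {t : G} (ht : orderOf t = 2) {a : Sylow p G} (hta : t • a = a) :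
    ∃! b : Sylow p G, b ≠ a ∧ t • b = b := by
  obtain ⟨b₀, hb₀⟩ := exists_ne_point h hp2 a
  obtain ⟨u, hu, -⟩ := regular h hp2 a b₀ (t • b₀) hb₀
    fun e => hb₀ (smul_left_cancel t (e.trans hta.symm))
  obtain ⟨w, hw⟩ : ∃ w, w = (u : G) ^ ((p ^ f + 1) / 2) := ⟨_, rfl⟩
  have hwP : w ∈ (a : Subgroup G) := hw ▸ pow_mem u.2 _
  have hww : w * w = u := by
    have huq : (u : G) ^ p ^ f = 1 := by
      rw [← h.card_sylow a]
      exact congrArg Subtype.val (pow_card_eq_one' (x := u))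
    obtain ⟨k, hk⟩ := odd_q h hp2
    rw [hw, ← pow_add, show (p ^ f + 1) / 2 + (p ^ f + 1) / 2 = p ^ f + 1 by omega, pow_succ, huq,
      one_mul]
  have hfix : t • w • b₀ = w • b₀ := by
    have hinv := (invol_inverts h hp2 a ht (Sylow.smul_eq_iff_mem_normalizer.1 hta)).1 w hwP
    calc t • w • b₀ = (t * w * t⁻¹) • t • b₀ := by rw [← mul_smul, ← mul_smul, inv_mul_cancel_right]
      _ = w⁻¹ • (w * w) • b₀ := by rw [hinv, ← hu, hww]
      _ = w • b₀ := by rw [mul_smul, inv_smul_smul]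
  have hne : w • b₀ ≠ a := fun e =>
    hb₀ (smul_left_cancel w (e.trans (smul_self_eq h hp2 a hwP).symm))
  refine ⟨w • b₀, ⟨hne, hfix⟩, ?_⟩
  rintro c ⟨hca, hc⟩
  by_contra hcne
  have e := three_fix h hp2 (g := t) (Ne.symm hne) (Ne.symm hcne) (Ne.symm hca) hta hfix hc
  rw [e, orderOf_one] at ht
  omega

/-- The involutions against the ordered pairs of points. -/
theorem count_identity :
    ∃ (W : Type u) (X : Set W), Finite W ∧ Nat.card W = (p ^ f + 1) * p ^ f * (p ^ f - 1) ∧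
      cnt G 2 * (p ^ f + 1) = (p ^ f + 1) * p ^ f + Nat.card X ∧
      (X = Set.univ ↔ ∀ (g : G) (a b : Sylow p G), a ≠ b → g • a = b → g • b = a → g * g = 1) := by
  classical
  have := Fintype.ofFinite (Sylow p G)
  let D := {d : Sylow p G × Sylow p G // d.1 ≠ d.2}
  have hD : Nat.card D = (p ^ f + 1) * p ^ f := by
    have e : Nat.card D + Nat.card {d : Sylow p G × Sylow p G // d.1 = d.2} =
        Nat.card (Sylow p G × Sylow p G) := by
      rw [← Nat.card_sum]
      exact Nat.card_congr ((Equiv.sumComm _ _).trans (Equiv.sumCompl _))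
    have e2 : Nat.card {d : Sylow p G × Sylow p G // d.1 = d.2} = Nat.card (Sylow p G) :=
      Nat.card_congr ⟨fun d => d.1.1, fun a => ⟨(a, a), rfl⟩,
        fun ⟨⟨a, b⟩, (e : a = b)⟩ => by subst e; rfl, fun a => rfl⟩
    rw [e2, Nat.card_prod, card_points h hp2] at e
    have : (p ^ f + 1) * (p ^ f + 1) = (p ^ f + 1) * p ^ f + (p ^ f + 1) := by ring
    omega
  let W := Σ d : D, {g : G // g • d.1.1 = d.1.2 ∧ g • d.1.2 = d.1.1}
  let X : Set W := {w | (w.2 : G) * w.2 = 1}
  refine ⟨W, X, inferInstance, ?_, ?_, ?_⟩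
  · have hfib : ∀ d : D, Nat.card {g : G // g • d.1.1 = d.1.2 ∧ g • d.1.2 = d.1.1} = p ^ f - 1 := by
      rintro ⟨⟨a, b⟩, hab⟩
      obtain ⟨g₀, h1, h2⟩ := MulAction.is_two_pretransitive_iff.1 (two_trans h hp2) hab (Ne.symm hab)
      rw [← (card_two_point h hp2 a b (Ne.symm hab)).trans rfl, one_mul]
      refine Nat.card_congr ⟨fun g => ⟨g₀⁻¹ * g.1, ⟨?_, ?_⟩⟩,
        fun k => ⟨g₀ * k.1, ?_, ?_⟩, fun g => ?_, fun k => ?_⟩
      · show (g₀⁻¹ * g.1) • a = a
        rw [mul_smul, g.2.1, ← h1, inv_smul_smul]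
      · show (g₀⁻¹ * g.1) • b = b
        rw [mul_smul, g.2.2, ← h2, inv_smul_smul]
      · show (g₀ * k.1) • a = b
        rw [mul_smul, show (k : G) • a = a from k.2.1, h1]
      · show (g₀ * k.1) • b = a
        rw [mul_smul, show (k : G) • b = b from k.2.2, h2]
      · exact Subtype.ext (mul_inv_cancel_left g₀ g.1)
      · exact Subtype.ext (inv_mul_cancel_left g₀ k.1)
    have := Fintype.ofFinite D
    rw [Nat.card_sigma, Finset.sum_congr rfl (fun d _ => hfib d), Finset.sum_const, Finset.card_univ,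
      ← Nat.card_eq_fintype_card, hD, smul_eq_mul]
  · let P2 := {t : G // orderOf t = 2} × Sylow p G
    have hP2 : Nat.card P2 = cnt G 2 * (p ^ f + 1) := by
      rw [Nat.card_prod, card_points h hp2]; rfl
    let Fx : {z : P2 // (z.1 : G) • z.2 = z.2} → D := fun z =>
      ⟨(z.1.2, (existsUnique_other h hp2 z.1.1.2 z.2).exists.choose),
        (existsUnique_other h hp2 z.1.1.2 z.2).exists.choose_spec.1.symm⟩
    have hFx : Function.Bijective Fx := by
      constructor
      · rintro ⟨⟨⟨t, ht⟩, a⟩, hz⟩ ⟨⟨⟨s, hs⟩, b⟩, hw⟩ e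
        have e1 : a = b := congrArg (fun d : D => d.1.1) e
        subst e1
        obtain ⟨hne, hfix⟩ := (existsUnique_other h hp2 ht hz).exists.choose_spec
        obtain ⟨-, hfix'⟩ := (existsUnique_other h hp2 hs hw).exists.choose_spec
        have e2 : (existsUnique_other h hp2 ht hz).exists.choose =
          (existsUnique_other h hp2 hs hw).exists.choose := congrArg (fun d : D => d.1.2) e
        rw [← e2] at hfix'
        obtain rfl := (existsUnique_invol h hp2 hne.symm).unique ⟨ht, hz, hfix⟩ ⟨hs, hw, hfix'⟩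
        rfl
      · rintro ⟨⟨a, b⟩, hab⟩
        obtain ⟨t, ⟨ht, hta, htb⟩, -⟩ := existsUnique_invol h hp2 hab
        refine ⟨⟨(⟨t, ht⟩, a), hta⟩, Subtype.ext (Prod.ext rfl ?_)⟩
        exact (existsUnique_other h hp2 ht hta).unique
          (existsUnique_other h hp2 ht hta).exists.choose_spec ⟨Ne.symm hab, htb⟩
    have hsq : ∀ t : G, orderOf t = 2 → t * t = 1 := fun t ht => by
      rw [← sq, ← ht, pow_orderOf_eq_one]
    let Mv : {z : P2 // ¬ (z.1 : G) • z.2 = z.2} → X := fun z =>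
      ⟨⟨⟨(z.1.2, (z.1.1 : G) • z.1.2), Ne.symm z.2⟩, ⟨z.1.1, rfl, by
        show (z.1.1 : G) • (z.1.1 : G) • z.1.2 = z.1.2
        rw [← mul_smul, hsq z.1.1.1 z.1.1.2, one_smul]⟩⟩, by
        show (z.1.1 : G) * z.1.1 = 1
        exact hsq z.1.1.1 z.1.1.2⟩
    have hMv : Function.Bijective Mv := by
      constructor
      · rintro ⟨⟨⟨t, ht⟩, a⟩, hz⟩ ⟨⟨⟨s, hs⟩, b⟩, hw⟩ e
        have e1 : a = b := congrArg (fun w : X => w.1.1.1.1) e
        have e2 : t = s := congrArg (fun w : X => (w.1.2 : G)) e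
        subst e1 e2
        rfl
      · rintro ⟨⟨⟨⟨a, b⟩, hab⟩, ⟨g, hga, hgb⟩⟩, hg⟩
        have hga' : g • a = b := hga
        have hgo : orderOf g = 2 := orderOf_eq_prime (by rw [sq]; exact hg) fun e => hab (by
          rw [← hga', e, one_smul])
        subst hga'
        exact ⟨⟨(⟨g, hgo⟩, a), fun e => hab e.symm⟩, rfl⟩
    rw [← hP2, ← Nat.card_congr (Equiv.ofBijective Mv hMv), ← hD,
      ← Nat.card_congr (Equiv.ofBijective Fx hFx), ← Nat.card_sum]
    exact Nat.card_congr (Equiv.sumCompl _).symm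
  · constructor
    · intro e g a b hab h1 h2
      exact (e.ge (Set.mem_univ (⟨⟨(a, b), hab⟩, ⟨g, h1, h2⟩⟩ : W)) : _)
    · intro e
      exact Set.eq_univ_of_forall fun w => e w.2 w.1.1.1 w.1.1.2 w.1.2 w.2.2.1 w.2.2.2

theorem card_invol_of_swaps
    (hs : ∀ (g : G) (a b : Sylow p G), a ≠ b → g • a = b → g • b = a → g * g = 1) :
    cnt G 2 = p ^ f * p ^ f := by
  obtain ⟨W, X, hW, hcW, hid, hX⟩ := count_identity h hp2
  rw [hX.2 hs, Nat.card_coe_set_eq, Set.ncard_univ, hcW] at hid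
  obtain ⟨k, hk⟩ := Nat.exists_eq_add_of_le' (show 1 ≤ p ^ f by have := h.four; omega)
  rw [hk, Nat.add_sub_cancel] at hid
  rw [hk]
  refine Nat.eq_of_mul_eq_mul_right (show 0 < k + 1 + 1 by omega) ?_
  rw [hid]
  ring

theorem swaps_of_card_invol (h2 : cnt G 2 = p ^ f * p ^ f) (g : G) (a b : Sylow p G) (hab : a ≠ b)
    (h1 : g • a = b) (h3 : g • b = a) : g * g = 1 := by
  obtain ⟨W, X, hW, hcW, hid, hX⟩ := count_identity h hp2
  refine hX.1 (Set.eq_univ_iff_ncard X |>.2 ?_) g a b hab h1 h3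
  rw [← Nat.card_coe_set_eq, hcW]
  rw [h2] at hid
  obtain ⟨k, hk⟩ := Nat.exists_eq_add_of_le' (show 1 ≤ p ^ f by have := h.four; omega)
  rw [hk] at hid ⊢
  rw [Nat.add_sub_cancel]
  have : (k + 1) * (k + 1) * (k + 1 + 1) = (k + 1 + 1) * (k + 1) + (k + 1 + 1) * (k + 1) * k := by ring
  omega

/-- Recognition of `PGL(2, q)`. -/
theorem recognise (h2 : cnt G 2 = p ^ f * p ^ f) : ∃ (K : Type) (_ : Field K) (_ : Fintype K),
    Fintype.card K = p ^ f ∧ Nonempty (G ≃* Matrix.ProjGenLinGroup (Fin 2) K) := by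
  classical
  have := Fintype.ofFinite (Sylow p G)
  have hΩ : Fintype.card (Sylow p G) = p ^ f + 1 := by
    rw [← Nat.card_eq_fintype_card, card_points h hp2]
  obtain ⟨a, b, hab⟩ := Fintype.exists_pair_of_one_lt_card
    (show 1 < Fintype.card (Sylow p G) by have := h.four; omega)
  obtain ⟨h3, hsharp⟩ := CfsgLib.Perm.ZassenhausClass.sharp_of_full (two_trans h hp2)
    (fun g x y z h1 h4 h5 k1 k2 k3 => three_fix h hp2 h1 h4 h5 k1 k2 k3) hab
    (by have := card_two_point h hp2 a b hab.symm; rw [one_mul] at this; rw [this, hΩ]; omega)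
  let φ : G →* Equiv.Perm (Sylow p G) := MulAction.toPermHom G _
  have hφ : Function.Injective φ := fun g g' e =>
    (faithful h hp2).eq_of_smul_eq_smul fun w => Equiv.Perm.congr_fun e w
  have h3' : MulAction.IsMultiplyPretransitive φ.range (Sylow p G) 3 := ⟨fun x y => by
    obtain ⟨g, hg⟩ := h3.exists_smul_eq x y
    exact ⟨⟨φ g, g, rfl⟩, hg⟩⟩
  have hsharp' : ∀ x : Fin 3 ↪ Sylow p G, MulAction.stabilizer φ.range x = ⊥ := by
    intro x
    rw [Subgroup.eq_bot_iff_forall]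
    rintro ⟨_, g, rfl⟩ hg
    have h1 : g ∈ MulAction.stabilizer G x := hg
    rw [hsharp x, mem_bot] at h1
    exact Subtype.ext (by simp [h1])
  have habel : ∀ a b : Sylow p G, a ≠ b → ∀ g g' : φ.range, g • a = a → g • b = b → g' • a = a →
      g' • b = b → g * g' = g' * g := by
    rintro a b hab ⟨_, g, rfl⟩ ⟨_, g', rfl⟩ h1 h2' h4 h5
    have h1' : g • a = a := h1
    have h2'' : g • b = b := h2'
    have h4' : g' • a = a := h4
    have h5' : g' • b = b := h5
    obtain ⟨s, hsa, hsb⟩ := MulAction.is_two_pretransitive_iff.1 (two_trans h hp2) hab (Ne.symm hab)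
    have inv : ∀ k : G, k • a = a → k • b = b → s * k * s⁻¹ = k⁻¹ := fun k ka kb => by
      have e := swaps_of_card_invol h hp2 h2 (s * k) a b hab (by rw [mul_smul, ka, hsa])
        (by rw [mul_smul, kb, hsb])
      have es := swaps_of_card_invol h hp2 h2 s a b hab hsa hsb
      rw [inv_eq_of_mul_eq_one_right es]
      exact eq_inv_of_mul_eq_one_left (by rw [← e]; group)
    have e := inv (g * g') (by rw [mul_smul, h4', h1']) (by rw [mul_smul, h5', h2''])
    rw [show s * (g * g') * s⁻¹ = (s * g * s⁻¹) * (s * g' * s⁻¹) by group, inv g h1' h2'',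
      inv g' h4' h5', ← mul_inv_rev, inv_inj] at e
    exact Subtype.ext (by rw [Subgroup.coe_mul, Subgroup.coe_mul, ← map_mul, ← map_mul, e])
  obtain ⟨F, iF, iFf, hcard, ⟨e⟩⟩ := CfsgLib.Perm.sharply_three_pgl_of_abelian φ.range h3' hsharp'
    habel (by have := h.four; omega)
  exact ⟨F, iF, iFf, Nat.succ_injective (hcard.symm.trans hΩ),
    ⟨(MonoidHom.ofInjective hφ).trans e⟩⟩

end CfsgLib.Recog.NSEPGL
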